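import Mathlib.AlgebraicGeometry.AffineSpace
import Mathlib.AlgebraicGeometry.Morphisms.Etale
import Mathlib.AlgebraicGeometry.Morphisms.Smooth
import Mathlib.RingTheory.RingHom.StandardSmooth

/-!
# Étale charts of a smooth morphism along a section
-/

universe u

set_option autoImplicit false
set_option backward.isDefEq.respectTransparency false
set_option backward.isDefEq.respectTransparency.types false
set_option linter.style.haveILetI false

open CategoryTheory CategoryTheory.Limits AlgebraicGeometry TopologicalSpace MvPolynomial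

namespace Groth.Agent.EtChart22

variable {ι : Type u}

instance map_etale {S T : Scheme.{u}} (f : S ⟶ T) [IsOpenImmersion f] : Etale (AffineSpace.map ι f) :=
  haveI : IsOpenImmersion (AffineSpace.map ι f) :=
    MorphismProperty.of_isPullback (P := @IsOpenImmersion) (AffineSpace.isPullback_map f).flip ‹_›
  inferInstance

/-- Translation of affine space by a vector of functions on the base. -/
noncomputable def translate {S : Scheme.{u}} (a : ι → Γ(S, ⊤)) : 𝔸(ι; S) ⟶ 𝔸(ι; S) :=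
  AffineSpace.homOfVector (𝔸(ι; S) ↘ S) fun j => AffineSpace.coord S j - (𝔸(ι; S) ↘ S).appTop (a j)

theorem translate_comp {S : Scheme.{u}} (a b : ι → Γ(S, ⊤)) (h : ∀ j, a j + b j = 0) :
    translate a ≫ translate b = 𝟙 _ := by
  apply AffineSpace.hom_ext
  · simp [translate]
  · intro j
    rw [Scheme.Hom.comp_appTop, CommRingCat.comp_apply]
    simp only [translate, AffineSpace.homOfVector_appTop_coord, map_sub, Scheme.Hom.id_appTop,
      CommRingCat.id_apply]
    rw [← CommRingCat.comp_apply, ← Scheme.Hom.comp_appTop, AffineSpace.homOfVector_over, sub_sub, ← map_add,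
      h, map_zero, sub_zero]

instance translate_isIso {S : Scheme.{u}} (a : ι → Γ(S, ⊤)) : IsIso (translate a) :=
  ⟨translate fun j => -a j, translate_comp _ _ fun j => by simp, translate_comp _ _ fun j => by simp⟩

/-- An étale presentation over a polynomial ring gives an étale map to affine space. -/
theorem etale_homOfVector {X S : Scheme.{u}} [IsAffine X] [IsAffine S] (f : X ⟶ S)
    (ψ : MvPolynomial ι Γ(S, ⊤) →+* Γ(X, ⊤)) (hψ : ψ.Etale) (hC : ψ.comp C = f.appTop.hom) :
    Etale (AffineSpace.homOfVector f fun j => ψ (MvPolynomial.X j)) := by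
  have heq : AffineSpace.homOfVector f (fun j => ψ (MvPolynomial.X j)) ≫ (AffineSpace.isoOfIsAffine ι S).hom =
      X.isoSpec.hom ≫ Spec.map (CommRingCat.ofHom ψ) := by
    refine ext_of_isAffine ?_
    rw [Scheme.Hom.comp_appTop, Scheme.Hom.comp_appTop, AffineSpace.isoOfIsAffine_hom_appTop, Category.assoc]
    rw [Scheme.isoSpec_hom, Scheme.toSpecΓ_appTop, Scheme.ΓSpecIso_naturality]
    congr 1
    apply CommRingCat.hom_ext
    refine MvPolynomial.ringHom_ext (fun r => ?_) fun j => ?_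
    · simp only [CommRingCat.hom_comp, CommRingCat.hom_ofHom, RingHom.comp_apply, eval₂Hom_C]
      rw [← CommRingCat.comp_apply, ← Scheme.Hom.comp_appTop, AffineSpace.homOfVector_over]
      exact (RingHom.congr_fun hC r).symm
    · simp only [CommRingCat.hom_comp, CommRingCat.hom_ofHom, RingHom.comp_apply, eval₂Hom_X']
      exact AffineSpace.homOfVector_appTop_coord _ _ _
  haveI : Etale (Spec.map (CommRingCat.ofHom ψ)) := (HasRingHomProperty.Spec_iff (P := @Etale)).2 hψ
  have : Etale (AffineSpace.homOfVector f (fun j => ψ (MvPolynomial.X j)) ≫ (AffineSpace.isoOfIsAffine ι S).hom) := by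
    rw [heq]; infer_instance
  exact (MorphismProperty.cancel_right_of_respectsIso @Etale _ _).1 this

theorem smooth_affineSpace (I : Type u) [Finite I] (S : Scheme.{u}) : Smooth (𝔸(I; S) ↘ S) := by
  haveI : Smooth (terminal.from (Spec (CommRingCat.of (MvPolynomial I (ULift.{u} ℤ))))) := by
    have := isIso_of_isTerminal specULiftZIsTerminal.{u} terminalIsTerminal (terminal.from _)
    haveI : Smooth (Spec.map (CommRingCat.ofHom (MvPolynomial.C : ULift.{u} ℤ →+* MvPolynomial I (ULift.{u} ℤ)))) := by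
      rw [HasRingHomProperty.Spec_iff (P := @Smooth)]
      change RingHom.Smooth (algebraMap (ULift.{u} ℤ) (MvPolynomial I (ULift.{u} ℤ)))
      rw [RingHom.smooth_algebraMap]
      exact { formallySmooth := inferInstance, finitePresentation := inferInstance }
    rw [← terminal.comp_from (Spec.map (CommRingCat.ofHom (MvPolynomial.C : ULift.{u} ℤ →+* MvPolynomial I (ULift.{u} ℤ))))]
    exact inferInstanceAs (Smooth (Spec.map (CommRingCat.ofHom (MvPolynomial.C : ULift.{u} ℤ →+* MvPolynomial I (ULift.{u} ℤ))) ≫ terminal.from (Spec (CommRingCat.of (ULift.{u} ℤ)))))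
  exact inferInstanceAs (Smooth (Limits.pullback.fst (terminal.from S) (terminal.from (Spec (CommRingCat.of (MvPolynomial I (ULift.{u} ℤ)))))))

variable {X Y : Scheme.{u}} (f : X ⟶ Y) [LocallyOfFinitePresentation f] (i : Y ⟶ X)

theorem exists_chart (hi : i ≫ f = 𝟙 Y) (y : Y) (hy : i.base y ∈ f.smoothLocus) :
    ∃ (U : Y.Opens) (V : X.Opens) (_ : y ∈ U) (hUV : U ≤ i ⁻¹ᵁ V) (hVU : V ≤ f ⁻¹ᵁ U) (m : ℕ)
      (v : ULift.{u} (Fin m) → Γ(V, ⊤)),
      Etale (AffineSpace.homOfVector (f.resLE U V hVU) v) ∧ ∀ j, (i.resLE V U hUV).appTop (v j) = 0 := by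
  let W := f.smoothLocus
  let h := W.ι ≫ f
  haveI : Smooth h := by
    rw [← Scheme.Hom.smoothLocus_eq_top_iff, ← Scheme.Hom.preimage_smoothLocus_eq, Scheme.Opens.ι_preimage_self]
  obtain ⟨U₁, hU₁, V₁, hV₁, hxV, e, hst⟩ := Smooth.exists_isStandardSmooth h ⟨i.base y, hy⟩
  obtain ⟨n, ψ₀, hψC, hψ₀⟩ := hst.exists_etale_mvPolynomial
  haveI : IsAffine U₁.toScheme := hU₁
  haveI : IsAffine V₁.toScheme := hV₁
  let r₁ : V₁.toScheme ⟶ U₁.toScheme := h.resLE U₁ V₁ e
  let eσ : MvPolynomial (ULift.{u} (Fin n)) Γ(U₁.toScheme, ⊤) ≃+* MvPolynomial (Fin n) Γ(Y, U₁) :=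
    (mapEquiv _ U₁.topIso.commRingCatIsoToRingEquiv).trans (renameEquiv _ Equiv.ulift).toRingEquiv
  let ψ : MvPolynomial (ULift.{u} (Fin n)) Γ(U₁.toScheme, ⊤) →+* Γ(V₁.toScheme, ⊤) :=
    V₁.topIso.inv.hom.comp (ψ₀.comp eσ.toRingHom)
  have hψ : ψ.Etale :=
    RingHom.Etale.respectsIso.1 _ V₁.topIso.symm.commRingCatIsoToRingEquiv
      (RingHom.Etale.respectsIso.2 _ eσ hψ₀)
  have hC : ψ.comp C = r₁.appTop.hom := by
    ext a
    show V₁.topIso.inv (ψ₀ (eσ (C a))) = _
    simp only [eσ, RingEquiv.trans_apply, mapEquiv_apply, map_C]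
    show V₁.topIso.inv (ψ₀ (rename _ (C _))) = _
    rw [rename_C, show ψ₀ (C _) = _ from RingHom.congr_fun hψC _]
    show _ = ((h.resLE U₁ V₁ e).app ⊤) a
    rw [Scheme.Hom.resLE_app_top]
    rfl
  haveI het₁ := etale_homOfVector r₁ ψ hψ hC
  -- the chart
  let V₂ : X.Opens := W.ι ''ᵁ V₁
  have hy₁ : i.base y ∈ V₂ := ⟨⟨i.base y, hy⟩, hxV, rfl⟩
  let U : Y.Opens := U₁ ⊓ i ⁻¹ᵁ V₂
  let V : X.Opens := V₂ ⊓ f ⁻¹ᵁ U
  have hfi : ∀ z : Y, f.base (i.base z) = z := fun z => by rw [← Scheme.Hom.comp_apply, hi]; rfl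
  have hyU₁ : y ∈ U₁ := by
    have : f.base (i.base y) ∈ U₁ := e hxV
    rwa [hfi] at this
  have hyU : y ∈ U := ⟨hyU₁, hy₁⟩
  have hUV : U ≤ i ⁻¹ᵁ V := fun z hz => ⟨hz.2, show f.base (i.base z) ∈ U by rw [hfi]; exact hz⟩
  have hVU : V ≤ f ⁻¹ᵁ U := inf_le_right
  have hV' : Set.range V.ι ⊆ Set.range (V₁.ι ≫ W.ι) := by
    rintro _ ⟨z, rfl⟩
    obtain ⟨w, hw, hwz⟩ := z.2.1
    exact ⟨⟨w, hw⟩, hwz⟩
  let l : V.toScheme ⟶ V₁.toScheme := IsOpenImmersion.lift (V₁.ι ≫ W.ι) V.ι hV'
  have hl : l ≫ V₁.ι ≫ W.ι = V.ι := IsOpenImmersion.lift_fac _ _ _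
  haveI : IsOpenImmersion (l ≫ V₁.ι ≫ W.ι) := by rw [hl]; infer_instance
  haveI : IsOpenImmersion l := IsOpenImmersion.of_comp l (V₁.ι ≫ W.ι)
  let r := f.resLE U V hVU
  let j := Y.homOfLE (inf_le_left : U ≤ U₁)
  have hr : r ≫ j = l ≫ r₁ := by
    rw [← cancel_mono U₁.ι]
    simp only [r, j, r₁, h, Category.assoc, Scheme.homOfLE_ι, Scheme.Hom.resLE_comp_ι, reassoc_of% hl]
    exact Scheme.Hom.resLE_comp_ι f hVU
  let v₁ : ULift.{u} (Fin n) → Γ(V, ⊤) := fun a => l.appTop (ψ (MvPolynomial.X a))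
  let a : ULift.{u} (Fin n) → Γ(U, ⊤) := fun b => (i.resLE V U hUV).appTop (v₁ b)
  have hcomp : AffineSpace.homOfVector r v₁ ≫ AffineSpace.map _ j =
      l ≫ AffineSpace.homOfVector r₁ fun b => ψ (MvPolynomial.X b) := by
    apply AffineSpace.hom_ext
    · simp [hr]
    · intro b
      rw [Scheme.Hom.comp_appTop, Scheme.Hom.comp_appTop, CommRingCat.comp_apply, CommRingCat.comp_apply,
        AffineSpace.map_appTop_coord, AffineSpace.homOfVector_appTop_coord, AffineSpace.homOfVector_appTop_coord]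
  haveI : Etale (AffineSpace.homOfVector r v₁ ≫ AffineSpace.map _ j) := by rw [hcomp]; infer_instance
  haveI : Etale (AffineSpace.homOfVector r v₁) := Etale.of_comp _ (AffineSpace.map _ j)
  have hv : AffineSpace.homOfVector r v₁ ≫ translate a =
      AffineSpace.homOfVector r fun b => v₁ b - r.appTop (a b) := by
    apply AffineSpace.hom_ext
    · simp [translate]
    · intro b
      rw [Scheme.Hom.comp_appTop, CommRingCat.comp_apply]
      simp only [translate, AffineSpace.homOfVector_appTop_coord, map_sub]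
      rw [← CommRingCat.comp_apply, ← Scheme.Hom.comp_appTop, AffineSpace.homOfVector_over]
  refine ⟨U, V, hyU, hUV, hVU, n, fun b => v₁ b - r.appTop (a b), ?_, fun b => ?_⟩
  · rw [← hv]; infer_instance
  · rw [map_sub, ← CommRingCat.comp_apply r.appTop, ← Scheme.Hom.comp_appTop]
    have : i.resLE V U hUV ≫ r = 𝟙 _ := by
      rw [← cancel_mono U.ι]
      simp [r, hi]
    rw [this, Scheme.Hom.id_appTop]
    exact sub_self _

theorem mem_smoothLocus_of_chart (y : Y) {U : Y.Opens} {V : X.Opens} (hyU : y ∈ U) (hUV : U ≤ i ⁻¹ᵁ V)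
    (hVU : V ≤ f ⁻¹ᵁ U) {m : ℕ} (v : ULift.{u} (Fin m) → Γ(V, ⊤))
    [Etale (AffineSpace.homOfVector (f.resLE U V hVU) v)] : i.base y ∈ f.smoothLocus := by
  haveI : Smooth (f.resLE U V hVU) := by
    haveI := smooth_affineSpace (ULift.{u} (Fin m)) (U : Scheme.{u})
    rw [← AffineSpace.homOfVector_over (f.resLE U V hVU) v]; infer_instance
  haveI : Smooth (V.ι ≫ f) := by
    rw [← Scheme.Hom.resLE_comp_ι f hVU]; infer_instance
  have h := Scheme.Hom.smoothLocus_eq_top (V.ι ≫ f)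
  rw [← Scheme.Hom.preimage_smoothLocus_eq] at h
  exact h.ge (Set.mem_univ (⟨i.base y, hUV hyU⟩ : V.toScheme))

end Groth.Agent.EtChart22
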